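import Groth.Agent.KFlatLib.BaseChange
import Mathlib.RingTheory.RingHom.Flat
import Mathlib.Algebra.Category.ModuleCat.Descent

/-!
# Restriction along a flat ring map preserves K-flatness
-/

set_option linter.style.haveILetI false
set_option autoImplicit false

universe u

open CategoryTheory CategoryTheory.Limits MonoidalCategory

namespace Groth.Agent.KFlatLib

variable {R S : Type u} [CommRing R] [CommRing S] (f : R →+* S)

/-- The bifunctor `(L, N) ↦ (S ⊗_R L) ⊗_S N`. -/
noncomputable abbrev extT₁ : ModuleCat.{u} R ⥤ ModuleCat.{u} S ⥤ ModuleCat.{u} S :=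
  ModuleCat.extendScalars f ⋙ curriedTensor (ModuleCat.{u} S)

instance additive_extT₁_obj (L : ModuleCat.{u} R) : ((extT₁ f).obj L).Additive :=
  inferInstanceAs (tensorLeft ((ModuleCat.extendScalars f).obj L)).Additive

instance additive_extT₁ : (extT₁ f).Additive where
  map_add {L L' g h} := by
    ext N : 2
    show (tensorRight N).map ((ModuleCat.extendScalars f).map (g + h)) = _
    rw [(ModuleCat.extendScalars f).map_add, (tensorRight N).map_add]
    rfl

/-- Restriction of `(S ⊗_R L) ⊗_S N` is `L ⊗_R N`. -/
noncomputable def extT₁Iso :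
    extT₁ f ⋙ (Functor.whiskeringRight _ _ _).obj (ModuleCat.restrictScalars f) ≅
      𝟭 (ModuleCat.{u} R) ⋙ curriedTensor (ModuleCat.{u} R) ⋙
        (Functor.whiskeringLeft _ _ _).obj (ModuleCat.restrictScalars f) :=
  NatIso.ofComponents
    (fun L => NatIso.ofComponents
      (fun N => (ModuleCat.restrictScalars f).mapIso (β_ _ _) ≪≫ cancelBCIso f N L ≪≫ β_ _ _)
      fun {N N'} g => by
        have h := NatTrans.congr_app ((extTIso f).hom.naturality g) L
        dsimp [extT, extTIso] at h ⊢
        simp only [Category.assoc]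
        rw [← Functor.map_comp_assoc, BraidedCategory.braiding_naturality_right, Functor.map_comp_assoc,
          reassoc_of% h, BraidedCategory.braiding_naturality_left])
    fun {L L'} g => by
      ext N : 2
      have h := ((extTIso f).hom.app N).naturality g
      dsimp [extT, extTIso] at h ⊢
      simp only [Category.assoc]
      rw [← Functor.map_comp_assoc, BraidedCategory.braiding_naturality_left, Functor.map_comp_assoc,
        reassoc_of% h, BraidedCategory.braiding_naturality_right]

/-- Restriction along a flat map preserves K-flatness. -/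
lemma kFlat_restrictScalars (hf : f.Flat) {K : CochainComplex (ModuleCat.{u} S) ℤ}
    (hK : KFlat (curriedTensor (ModuleCat.{u} S)) K) :
    KFlat (curriedTensor (ModuleCat.{u} R))
      (((ModuleCat.restrictScalars f).mapHomologicalComplex (ComplexShape.up ℤ)).obj K) :=
  kFlat_iff.2 fun L hL => by
    haveI := ModuleCat.preservesFiniteLimits_extendScalars_of_flat hf
    haveI : PreservesFiniteColimits (ModuleCat.extendScalars f : ModuleCat.{u} R ⥤ ModuleCat.{u} S) := by
      haveI := (ModuleCat.extendRestrictScalarsAdj f).leftAdjoint_preservesColimits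
      infer_instance
    let e₁ : (((curriedTensor (ModuleCat.{u} S)).map₂CochainComplex.obj
        (((ModuleCat.extendScalars f).mapHomologicalComplex (ComplexShape.up ℤ)).obj L)).obj
          (((𝟭 (ModuleCat.{u} S)).mapHomologicalComplex (ComplexShape.up ℤ)).obj K)) ≅
        ((𝟭 (ModuleCat.{u} S)).mapHomologicalComplex (ComplexShape.up ℤ)).obj
          (((extT₁ f).map₂CochainComplex.obj L).obj K) :=
      totalMapIso (Φ₁ := ModuleCat.extendScalars f) (Φ₂ := 𝟭 (ModuleCat.{u} S))
        (Ψ := 𝟭 (ModuleCat.{u} S)) (T := extT₁ f) (T' := curriedTensor (ModuleCat.{u} S))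
        (Iso.refl _) L K
    let e₂ := totalMapIso (Φ₁ := 𝟭 (ModuleCat.{u} R)) (Φ₂ := ModuleCat.restrictScalars f)
      (Ψ := ModuleCat.restrictScalars f) (T := extT₁ f) (T' := curriedTensor (ModuleCat.{u} R))
      (extT₁Iso f) L K
    have hL' : (((ModuleCat.extendScalars f).mapHomologicalComplex (ComplexShape.up ℤ)).obj
        L).Acyclic := fun i => (hL i).map (ModuleCat.extendScalars f)
    have h : (((ModuleCat.restrictScalars f).mapHomologicalComplex (ComplexShape.up ℤ)).obj
        (((extT₁ f).map₂CochainComplex.obj L).obj K)).Acyclic :=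
      fun i => ((hK.acyclic hL' i).of_iso e₁).map (ModuleCat.restrictScalars f)
    exact fun i => (h i).of_iso e₂.symm

end Groth.Agent.KFlatLib
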